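import Groth.Agent.Etdl.H435.Defs
import Groth.Agent.Sga4B.DiagPkg
import Groth.Agent.Etrest.EtExtStalk
import Groth.Agent.Etrest.ShriekProper
import Groth.Agent.CurvesA.AffCdPush
import Groth.Agent.Sga4h.EtaleRes
import Groth.Agent.Etrest.TorsEt

/-!
# `j_! ℤ/m`: finite étale covers, shrinking, base change (S3736, D7, D8, D9)
-/

set_option autoImplicit false
universe u
open CategoryTheory CategoryTheory.Limits AlgebraicGeometry Opposite IsLocalRing TensorProduct
open Groth.Agent.Etdl.H435.Defs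
open Groth.Agent.Sga4B Groth.Agent.Sga4B.DualShape

namespace Groth.Agent.Etdl.H518.JShriek

theorem nonempty_pull_extZeroConst_iso {X' V : Scheme.{u}} (g' : X' ⟶ V) (T₀ : V.Etale) (T : X'.Etale)
    (t : T.left ⟶ T₀.left) (h : IsPullback t T.hom T₀.hom g') (M : Type) [AddCommGroup M] :
    Nonempty ((EtCoh.pull g').obj (EtPBC.extZeroConst T₀ M) ≅ EtPBC.extZeroConst T M) := by
  let e : (EtCoh.bc g').obj T₀ ≅ T :=
    MorphismProperty.Over.isoMk h.isoPullback.symm (by
      change h.isoPullback.inv ≫ T.hom = pullback.snd T₀.hom g'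
      exact h.isoPullback_inv_snd)
  exact ⟨(JFComp.pullIso M g').app T₀ ≪≫ (JF X' M).mapIso e⟩

theorem isTorsion_LS {X : Scheme.{u}} (U : X.Etale) (m : ℕ) (hm : 0 < m) :
    EtCoh.IsTorsion (EtPBC.extZeroConst U (ZMod m)) :=
  fun V s x => ⟨V, 𝟙 V, ⟨x, rfl⟩, by
    rw [op_id, (EtPBC.extZeroConst U (ZMod m)).obj.map_id]
    exact isOfFinAddOrder_iff_nsmul_eq_zero.2
      ⟨m, hm, EtpbcA.Present.killedBy_extZeroConst U m V s⟩⟩

/-- vanishing of `H^q` passes to quotients if `H^{q+1}` of torsion sheaves vanishes -/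
theorem subsingleton_H_of_epi {X : Scheme.{u}} {F G : EtCoh.Ab X} (φ : F ⟶ G) [Epi φ]
    (hF : EtCoh.IsTorsion F) (q : ℕ)
    (hq : ∀ F : EtCoh.Ab X, EtCoh.IsTorsion F → Subsingleton (EtCoh.H X F (q + 1)))
    (h : Subsingleton (EtCoh.H X F q)) : Subsingleton (EtCoh.H X G q) := by
  let S : ShortComplex (EtCoh.Ab X) := ShortComplex.mk (kernel.ι φ) φ (kernel.condition φ)
  have hS : S.ShortExact :=
    { exact := ShortComplex.exact_of_f_is_kernel _ (kernelIsKernel φ)
      mono_f := inferInstanceAs (Mono (kernel.ι φ))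
      epi_g := inferInstanceAs (Epi φ) }
  exact EtpbcA.CdLeray.ext_right hS _ q h
    (hq _ (Etrest.TorsEt.isTorsion_of_mono (kernel.ι φ) hF))

theorem epi_JF_map {X : Scheme.{u}} {U V : X.Etale} (M : Type) [AddCommGroup M] (g : V ⟶ U)
    (hg : Function.Surjective g.left) : Epi ((JF X M).map g) := by
  have h := DiagPkg.epi_desc M (fun _ : Fin 1 => V) (fun _ => g) (fun x => ⟨0, hg x⟩)
  constructor
  intro G α β hab
  rw [← cancel_epi (biproduct.desc (fun _ : Fin 1 => (JF X M).map g))]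
  apply biproduct.hom_ext'
  intro i
  rw [biproduct.ι_desc_assoc, biproduct.ι_desc_assoc, hab]

theorem subsingleton_H_extZeroConst_of_finite_etale {X' X : Scheme.{u}} (r : X' ⟶ X) [IsFinite r]
    [Etale r] [Surjective r] (U : X.Etale) (m : ℕ) (hm : 0 < m) (q : ℕ)
    (hq : ∀ F : EtCoh.Ab X, EtCoh.IsTorsion F → Subsingleton (EtCoh.H X F (q + 1)))
    (h : Subsingleton (EtCoh.H X' (EtPBC.extZeroConst ((EtCoh.bc r).obj U) (ZMod m)) q)) :
    Subsingleton (EtCoh.H X (EtPBC.extZeroConst U (ZMod m)) q) := by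
  have hj : EtShriek.JCont r := Sga4h.EtaleRes.jCont r
  let W : X.Etale := (EtShriek.compEtale r).obj ((EtCoh.bc r).obj U)
  let c : W ⟶ U := (Sga4h.EtaleRes.compBcAdj r).counit.app U
  have hc : Function.Surjective c.left := by
    have h1 : Surjective (pullback.fst U.hom r) := inferInstance
    exact h1.1
  have hepi := epi_JF_map (ZMod m) c hc
  refine subsingleton_H_of_epi ((JF X (ZMod m)).map c) (isTorsion_LS W m hm) q hq ?_
  have h2 := (CurvesA.AffCdPush.H_push_iff_of_isFinite r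
    (EtPBC.extZeroConst ((EtCoh.bc r).obj U) (ZMod m)) q).2 h
  have e1 : (JF X (ZMod m)).obj W ≅ (EtShriek.extZero r).obj
      (EtPBC.extZeroConst ((EtCoh.bc r).obj U) (ZMod m)) :=
    ((JFComp.extZeroIso (ZMod m) r).app ((EtCoh.bc r).obj U)).symm
  have e2 := (Etrest.EtExtStalk.extZeroIsoLowerShriek r ≪≫
    Etrest.ShriekProper.lowerShriekIsoPush r).app
      (EtPBC.extZeroConst ((EtCoh.bc r).obj U) (ZMod m))
  exact EtpbcA.CdLeray.subsingleton_ext_of_iso _ (e1 ≪≫ e2).symm q h2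

/-- `T_W ⟶ U_W` has a section if `T ⟶ U` is an open immersion whose image contains the part of `U`
over `W`. -/
theorem isSplitEpi_bc_of_open {X : Scheme.{u}} {T U : X.Etale} (g : T ⟶ U) (W : X.Opens)
    (hW : ∀ u : U.left, U.hom u ∈ W → u ∈ Set.range g.left) (hg : Mono g.left) :
    IsSplitEpi ((EtCoh.bc W.ι).map g) := by
  have hTe : Etale T.hom := T.prop
  have hUe : Etale U.hom := U.prop
  have hw : g.left ≫ U.hom = T.hom := MorphismProperty.Over.w g
  have hge : Etale g.left := by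
    have : Etale (g.left ≫ U.hom) := by rw [hw]; exact hTe
    exact Etale.of_comp g.left U.hom
  have hgo : IsOpenImmersion g.left := IsOpenImmersion.of_flat_of_mono g.left
  have hr : Set.range (pullback.fst U.hom W.ι) ⊆ Set.range g.left := by
    rintro _ ⟨z, rfl⟩
    apply hW
    have h1 := congrArg (fun t => t z) (pullback.condition (f := U.hom) (g := W.ι))
    have h2 : U.hom ((pullback.fst U.hom W.ι) z) = W.ι ((pullback.snd U.hom W.ι) z) := by
      rw [← Scheme.Hom.comp_apply, ← Scheme.Hom.comp_apply]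
      exact h1
    rw [h2]
    exact ((pullback.snd U.hom W.ι) z).2
  let l : pullback U.hom W.ι ⟶ T.left := IsOpenImmersion.lift g.left (pullback.fst U.hom W.ι) hr
  have hl : l ≫ g.left = pullback.fst U.hom W.ι := IsOpenImmersion.lift_fac _ _ _
  let s : (EtCoh.bc W.ι).obj U ⟶ (EtCoh.bc W.ι).obj T :=
    MorphismProperty.Over.homMk
      (pullback.lift l (pullback.snd U.hom W.ι) (by
        rw [← hw, ← Category.assoc, hl, pullback.condition]) :
        pullback U.hom W.ι ⟶ pullback T.hom W.ι)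
      (pullback.lift_snd _ _ _) trivial
  refine ⟨⟨s, ?_⟩⟩
  apply MorphismProperty.Over.Hom.ext
  change pullback.lift l (pullback.snd U.hom W.ι) _ ≫ _ = 𝟙 (pullback U.hom W.ι)
  apply pullback.hom_ext
  · have h1 : ((EtCoh.bc W.ι).map g).left ≫ pullback.fst U.hom W.ι =
        pullback.fst T.hom W.ι ≫ g.left := pullback.lift_fst _ _ _
    rw [Category.assoc, Category.id_comp]
    refine (congrArg (fun t => pullback.lift l (pullback.snd U.hom W.ι) _ ≫ t) h1).trans ?_
    rw [← Category.assoc, pullback.lift_fst, hl]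
  · have h1 : ((EtCoh.bc W.ι).map g).left ≫ pullback.snd U.hom W.ι =
        pullback.snd T.hom W.ι := MorphismProperty.Over.w ((EtCoh.bc W.ι).map g)
    rw [Category.assoc, Category.id_comp]
    refine (congrArg (fun t => pullback.lift l (pullback.snd U.hom W.ι) _ ≫ t) h1).trans ?_
    rw [pullback.lift_snd]

theorem supp_cokernel_of_open {X : Scheme.{u}} {T U : X.Etale} (M : Type) [AddCommGroup M]
    (g : T ⟶ U) (W : X.Opens)
    (hW : ∀ u : U.left, U.hom u ∈ W → u ∈ Set.range g.left) (hg : Mono g.left) :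
    EtPBC.supp (cokernel ((JF X M).map g)) ⊆ (W : Set X)ᶜ := by
  have h1 := isSplitEpi_bc_of_open g W hW hg
  have h2 := DiagPkg.epi_pull_jMap W.ι M g
  have h3 := CurvesA.GenSupp.isZero_pull_cokernel W.ι ((JF X M).map g)
  intro x hx hxW
  have h4 := EtpbcA.Artin.supp_eq_empty_of_isZero h3 ⟨x, hxW⟩
  rw [EtpbcA.Artin.supp_pull] at h4
  exact h4 hx

theorem subsingleton_H_extZeroConst_of_open {X : Scheme.{u}} {T U : X.Etale} (g : T ⟶ U)
    (W : X.Opens) (hW : ∀ u : U.left, U.hom u ∈ W → u ∈ Set.range g.left)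
    (hT : ∀ t : T.left, T.hom t ∈ W) (hg : Mono g.left) (m : ℕ) (hm : 0 < m) (q : ℕ)
    (hq : ∀ F : EtCoh.Ab X, EtCoh.IsTorsion F → Subsingleton (EtCoh.H X F (q + 1)))
    (hsupp : ∀ F : EtCoh.Ab X, EtCoh.IsTorsion F → EtPBC.supp F ⊆ (W : Set X)ᶜ →
      Subsingleton (EtCoh.H X F q))
    (h : Subsingleton (EtCoh.H X (EtPBC.extZeroConst T (ZMod m)) q)) :
    Subsingleton (EtCoh.H X (EtPBC.extZeroConst U (ZMod m)) q) := by
  set φ := (JF X (ZMod m)).map g with hφ
  have h1 : Subsingleton (EtCoh.H X (image φ) q) :=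
    subsingleton_H_of_epi (factorThruImage φ) (isTorsion_LS T m hm) q hq h
  have hk : EtCoh.KilledBy m (cokernel (image.ι φ)) :=
    EtpbcA.Present.killedBy_of_epi (cokernel.π (image.ι φ))
      (EtpbcA.Present.killedBy_extZeroConst U m)
  have h2 : Subsingleton (EtCoh.H X (cokernel (image.ι φ)) q) := by
    refine hsupp _ (fun V s x => ⟨V, 𝟙 V, ⟨x, rfl⟩, ?_⟩) ?_
    · rw [op_id, (cokernel (image.ι φ)).obj.map_id]
      exact isOfFinAddOrder_iff_nsmul_eq_zero.2 ⟨m, hm, hk V s⟩
    · rw [EtpbcA.Artin.supp_congr (cokernelImageι φ)]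
      exact supp_cokernel_of_open (ZMod m) g W hW hg
  let S : ShortComplex (EtCoh.Ab X) := ShortComplex.mk (image.ι φ) (cokernel.π (image.ι φ))
    (cokernel.condition _)
  have hS : S.ShortExact :=
    { exact := ShortComplex.exact_of_g_is_cokernel _ (cokernelIsCokernel (image.ι φ))
      mono_f := inferInstanceAs (Mono (image.ι φ))
      epi_g := inferInstanceAs (Epi (cokernel.π (image.ι φ))) }
  exact EtpbcA.CdLeray.ext_mid hS _ q h1 h2

end Groth.Agent.Etdl.H518.JShriek
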